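import Mathlib

set_option autoImplicit false
set_option linter.unusedVariables false
set_option linter.unusedSimpArgs false
set_option linter.style.haveILetI false

open scoped MatrixGroups commutatorElement
open Matrix

/-! `SL`, `GL` and their projective quotients: orders, transvection generation, perfectness, simplicity. -/

namespace Cfsg.Lib.Classical

universe u v

variable {ι : Type u} [Fintype ι] [DecidableEq ι] {F : Type v} [Field F]

theorem det_surjective' [Nonempty ι] :
    Function.Surjective (GeneralLinearGroup.det : GL ι F →* Fˣ) := by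
  intro a
  obtain ⟨i⟩ := ‹Nonempty ι›
  let d : ι → Fˣ := fun k => if k = i then a else 1
  refine ⟨Units.map (Matrix.diagonalRingHom ι F).toMonoidHom (MulEquiv.piUnits.symm d), ?_⟩
  apply Units.ext
  simp [d, GeneralLinearGroup.val_det_apply, Finset.prod_ite_eq', apply_ite]

/-- `SL` is the kernel of `det` on `GL`. -/
theorem range_toGL :
    (SpecialLinearGroup.toGL : SpecialLinearGroup ι F →* GL ι F).range =
      (GeneralLinearGroup.det : GL ι F →* Fˣ).ker := by
  ext g
  simp only [MonoidHom.mem_range, MonoidHom.mem_ker]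
  constructor
  · rintro ⟨A, rfl⟩
    apply Units.ext
    simp
  · intro h
    exact ⟨⟨g.1, by simpa using congrArg Units.val h⟩, Units.ext rfl⟩

theorem toGL_injective' :
    Function.Injective (SpecialLinearGroup.toGL : SpecialLinearGroup ι F →* GL ι F) :=
  fun A B h => Subtype.ext (congrArg Units.val h)

theorem card_SL_mul [Nonempty ι] [Finite F] :
    (Nat.card F - 1) * Nat.card (SpecialLinearGroup ι F) = Nat.card (GL ι F) := by
  have h1 := Subgroup.card_mul_index (GeneralLinearGroup.det : GL ι F →* Fˣ).ker
  rw [Subgroup.index_ker, MonoidHom.range_eq_top.mpr det_surjective', Subgroup.card_top,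
    Nat.card_units, ← range_toGL,
    ← Nat.card_congr (MonoidHom.ofInjective (toGL_injective' (ι := ι) (F := F))).toEquiv] at h1
  rw [mul_comm]; exact h1

theorem card_SL_mul_eq_prod [Fintype F] {n : ℕ} (hn : 1 ≤ n) :
    (Fintype.card F - 1) * Nat.card (SpecialLinearGroup (Fin n) F) =
      ∏ i : Fin n, (Fintype.card F ^ n - Fintype.card F ^ (i : ℕ)) := by
  have : Nonempty (Fin n) := ⟨⟨0, hn⟩⟩
  rw [← Nat.card_eq_fintype_card (α := F), card_SL_mul, Matrix.card_GL_field, Nat.card_eq_fintype_card]

theorem card_rootsOfUnity_eq_gcd [Finite F] (n : ℕ) :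
    Nat.card (rootsOfUnity n F) = Nat.gcd n (Nat.card F - 1) := by
  have h : rootsOfUnity n F = (powMonoidHom n : Fˣ →* Fˣ).ker := by
    ext x; simp [mem_rootsOfUnity]
  rw [h, IsCyclic.card_powMonoidHom_ker, Nat.card_units, Nat.gcd_comm]

theorem card_center_SL [Nonempty ι] [Finite F] :
    Nat.card (Subgroup.center (SpecialLinearGroup ι F)) = Nat.gcd (Fintype.card ι) (Nat.card F - 1) := by
  rw [Nat.card_congr (SpecialLinearGroup.center_equiv_rootsOfUnity' (Classical.arbitrary ι)).toEquiv,
    card_rootsOfUnity_eq_gcd]

theorem gcd_mul_card_PSL [Nonempty ι] [Finite F] :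
    Nat.gcd (Fintype.card ι) (Nat.card F - 1) * Nat.card (ProjectiveSpecialLinearGroup ι F) =
      Nat.card (SpecialLinearGroup ι F) := by
  rw [← card_center_SL (ι := ι) (F := F)]
  exact ((Subgroup.card_eq_card_quotient_mul_card_subgroup _).trans (mul_comm _ _)).symm

theorem scalar_GL_injective [Nonempty ι] :
    Function.Injective (GeneralLinearGroup.scalar ι : Fˣ →* GL ι F) := by
  intro a b h
  have := congrArg Units.val h
  exact Units.ext (Matrix.scalar_inj.mp this)

theorem card_center_GL [Nonempty ι] [Finite F] :
    Nat.card (Subgroup.center (GL ι F)) = Nat.card F - 1 := by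
  rw [GeneralLinearGroup.center_eq_range_scalar,
    ← Nat.card_congr (MonoidHom.ofInjective (scalar_GL_injective (ι := ι) (F := F))).toEquiv,
    Nat.card_units]

theorem card_PGL [Finite F] :
    Nat.card (ProjGenLinGroup ι F) = Nat.card (SpecialLinearGroup ι F) := by
  rcases isEmpty_or_nonempty ι with h | h
  · have e1 : Subsingleton (Matrix ι ι F) := ⟨fun A B => Matrix.ext fun i => h.elim i⟩
    have e2 : Subsingleton (GL ι F) := ⟨fun A B => Units.ext (Subsingleton.elim _ _)⟩
    have e3 : Subsingleton (ProjGenLinGroup ι F) := ProjGenLinGroup.mk_surjective.subsingleton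
    have e4 : Subsingleton (SpecialLinearGroup ι F) := ⟨fun A B => Subtype.ext (Subsingleton.elim _ _)⟩
    rw [Nat.card_of_subsingleton (1 : ProjGenLinGroup ι F), Nat.card_of_subsingleton (1 : SpecialLinearGroup ι F)]
  · have h1 : Nat.card (GL ι F) = Nat.card (ProjGenLinGroup ι F) * Nat.card (Subgroup.center (GL ι F)) :=
      Subgroup.card_eq_card_quotient_mul_card_subgroup _
    rw [card_center_GL, ← card_SL_mul, mul_comm (Nat.card F - 1)] at h1
    exact (Nat.eq_of_mul_eq_mul_right (Nat.sub_pos_of_lt Finite.one_lt_card) h1).symm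

/-- The map `PGL → Fˣ ⧸ (Fˣ)^n` induced by `det` has image of `PSL` as kernel. -/
theorem exists_PGL_quotient_hom [Nonempty ι] [Finite F] :
    ∃ g : ProjGenLinGroup ι F →* Multiplicative (ZMod (Nat.gcd (Fintype.card ι) (Nat.card F - 1))),
      Function.Surjective g ∧
        g.ker = (ProjectiveSpecialLinearGroup.toPGL :
          ProjectiveSpecialLinearGroup ι F →* ProjGenLinGroup ι F).range := by
  set n := Fintype.card ι
  set P : Subgroup Fˣ := (powMonoidHom n).range with hP
  have hcard : Nat.card (Fˣ ⧸ P) = Nat.gcd n (Nat.card F - 1) := by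
    rw [← Subgroup.index_eq_card, hP, IsCyclic.index_powMonoidHom_range, Nat.card_units, Nat.gcd_comm]
  haveI : IsCyclic (Fˣ ⧸ P) := isCyclic_of_surjective (QuotientGroup.mk' P) (QuotientGroup.mk'_surjective P)
  let e : Fˣ ⧸ P ≃* Multiplicative (ZMod (Nat.gcd n (Nat.card F - 1))) :=
    (zmodCyclicMulEquiv (inferInstance : IsCyclic (Fˣ ⧸ P))).symm.trans (by rw [hcard])
  let f : GL ι F →* Multiplicative (ZMod (Nat.gcd n (Nat.card F - 1))) :=
    e.toMonoidHom.comp ((QuotientGroup.mk' P).comp GeneralLinearGroup.det)
  have hdet : ∀ u : Fˣ, GeneralLinearGroup.det (GeneralLinearGroup.scalar ι u) = u ^ n := by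
    intro u
    apply Units.ext
    simp [n, GeneralLinearGroup.val_det_apply]
  have hf : f.comp (GeneralLinearGroup.scalar ι) = 1 := by
    ext u
    simp only [f, MonoidHom.comp_apply, hdet]
    rw [(QuotientGroup.eq_one_iff _).mpr ⟨u, rfl⟩ |> fun h => show (QuotientGroup.mk' P) (u ^ n) = 1 from h]
    simp
  refine ⟨ProjGenLinGroup.lift f hf, ?_, ?_⟩
  · intro y
    obtain ⟨a, ha⟩ := QuotientGroup.mk'_surjective P (e.symm y)
    obtain ⟨g, hg⟩ := det_surjective' (ι := ι) a
    refine ⟨ProjGenLinGroup.mk g, ?_⟩
    rw [ProjGenLinGroup.lift_mk]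
    show e (QuotientGroup.mk' P (GeneralLinearGroup.det g)) = y
    rw [hg, ha, MulEquiv.apply_symm_apply]
  · ext x
    induction x using ProjGenLinGroup.induction_on with | mk g => ?_
    rw [MonoidHom.mem_ker, ProjGenLinGroup.lift_mk]
    constructor
    · intro h
      obtain ⟨u, hu⟩ : GeneralLinearGroup.det g ∈ P := by
        rw [← QuotientGroup.eq_one_iff]
        exact e.injective (h.trans (map_one e).symm)
      have hmem : g * GeneralLinearGroup.scalar ι u⁻¹ ∈
          (SpecialLinearGroup.toGL : SpecialLinearGroup ι F →* GL ι F).range := by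
        rw [range_toGL, MonoidHom.mem_ker, map_mul, hdet, ← hu]
        simp
      obtain ⟨A, hA⟩ := hmem
      exact ⟨QuotientGroup.mk A, by rw [ProjectiveSpecialLinearGroup.toPGL_mk, hA, map_mul, ProjGenLinGroup.mk_scalar, mul_one]⟩
    · rintro ⟨A, hA⟩
      induction A using QuotientGroup.induction_on with | H A => ?_
      rw [ProjectiveSpecialLinearGroup.toPGL_mk] at hA
      obtain ⟨u, hu⟩ := ProjGenLinGroup.mk_eq_mk_iff.mp hA
      have hd : GeneralLinearGroup.det (SpecialLinearGroup.toGL A) = 1 := by
        apply Units.ext; simp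
      rw [← hu]
      simp only [f, MonoidHom.comp_apply, map_mul, hd, hdet, map_one, one_mul]
      rw [show (QuotientGroup.mk' P) (u ^ n) = 1 from (QuotientGroup.eq_one_iff _).mpr ⟨u, rfl⟩]
      simp

/-! ### Generation by transvections -/

open Matrix.SpecialLinearGroup (transvection diag2n)

theorem diag2n_eq_prod {i j : ι} (hij : i ≠ j) (a : F) (ha : a ≠ 0) :
    diag2n hij a ha = SpecialLinearGroup.transvection hij a *
      SpecialLinearGroup.transvection hij.symm (-a⁻¹) * SpecialLinearGroup.transvection hij a *
      SpecialLinearGroup.transvection hij (-1) * SpecialLinearGroup.transvection hij.symm 1 *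
      SpecialLinearGroup.transvection hij (-1) := by
  have hc : ∀ (k l : ι) (h : k ≠ l) (c : F),
      (SpecialLinearGroup.transvection h c : Matrix ι ι F) = Matrix.transvection k l c := fun _ _ _ _ => rfl
  apply Subtype.ext
  change (diagonal fun k => if k = i then a else if k = j then a⁻¹ else 1) =
    Matrix.transvection i j a * Matrix.transvection j i (-a⁻¹) * Matrix.transvection i j a *
      Matrix.transvection i j (-1) * Matrix.transvection j i 1 * Matrix.transvection i j (-1)
  have hT : ∀ (k l : ι) (c : F) (x y : ι), Matrix.transvection k l c x y =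
      (if x = y then (1 : F) else 0) + (if k = x ∧ l = y then c else 0) := by
    intro k l c x y
    simp [Matrix.transvection, one_apply, single_apply]
  simp only [mul_assoc]
  ext x y
  by_cases hx : x = i
  · subst hx
    by_cases hy : x = y
    · subst hy; simp [hij, hij.symm, diagonal_apply, hT]; all_goals (first | tauto | (field_simp; try ring_nf; try tauto))
    · by_cases hy2 : j = y
      · subst hy2; simp [hy, hij, hij.symm, diagonal_apply, hT]; all_goals (field_simp; try ring)
      · simp [hy, hy2, hij, hij.symm, diagonal_apply, hT]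
  · by_cases hx2 : x = j
    · subst hx2
      by_cases hy : x = y
      · subst hy; simp [hij, hij.symm, diagonal_apply, hT]; all_goals (first | tauto | (field_simp; try ring_nf; try tauto))
      · by_cases hy2 : i = y
        · subst hy2; simp [hy, hij, hij.symm, diagonal_apply, hT]; all_goals (field_simp; try ring)
        · simp [hy, hy2, hij, hij.symm, diagonal_apply, hT]
    · simp [hx, hx2, Ne.symm hx, Ne.symm hx2, diagonal_apply, hT]

/-- A subgroup containing all elementary transvections is everything. -/
theorem eq_top_of_transvection_mem (H : Subgroup (SpecialLinearGroup ι F))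
    (h : ∀ (i j : ι) (hij : i ≠ j) (c : F), SpecialLinearGroup.transvection hij c ∈ H) : H = ⊤ := by
  rcases subsingleton_or_nontrivial ι with hs | hn
  · exact Subsingleton.elim _ _
  rw [eq_top_iff]
  intro M _
  refine SpecialLinearGroup.diagonal_transvection_induction' (· ∈ H) M ?_ h fun A B => H.mul_mem
  intro i j hij c hc
  rw [diag2n_eq_prod hij c hc]
  apply_rules [H.mul_mem, h]

theorem transvection_commutator {i j k : ι} (hik : i ≠ k) (hkj : k ≠ j) (hij : i ≠ j) (c : F) :
    ⁅SpecialLinearGroup.transvection hik c, SpecialLinearGroup.transvection hkj (1 : F)⁆ =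
      SpecialLinearGroup.transvection hij c := by
  rw [commutatorElement_def, SpecialLinearGroup.transvection_inv, SpecialLinearGroup.transvection_inv]
  apply Subtype.ext
  simp [SpecialLinearGroup.coe_mul, SpecialLinearGroup.transvection_coe, mul_add, add_mul,
    single_mul_single_of_ne, hik, hkj, hij, hik.symm, hkj.symm, hij.symm]
  simp only [← single_neg]
  abel

theorem exists_third (h3 : 3 ≤ Fintype.card ι) (i j : ι) : ∃ k, k ≠ i ∧ k ≠ j := by
  by_contra h
  push Not at h
  have : (Finset.univ : Finset ι) ⊆ {i, j} := fun k _ => by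
    by_cases hk : k = i
    · simp [hk]
    · simp [h k hk]
  have := (Finset.card_le_card this).trans Finset.card_le_two
  simp at this; omega

theorem SL_commutator_eq_top (h3 : 3 ≤ Fintype.card ι) :
    commutator (SpecialLinearGroup ι F) = ⊤ := by
  refine eq_top_of_transvection_mem _ fun i j hij c => ?_
  obtain ⟨k, hki, hkj⟩ := exists_third h3 i j
  rw [← transvection_commutator hki.symm hkj hij c]
  exact Subgroup.commutator_mem_commutator (Subgroup.mem_top _) (Subgroup.mem_top _)

theorem transvection_mem_commutatorSet (h3 : 3 ≤ Fintype.card ι) {i j : ι} (hij : i ≠ j) (c : F) :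
    SpecialLinearGroup.transvection hij c ∈ commutatorSet (SpecialLinearGroup ι F) := by
  obtain ⟨k, hki, hkj⟩ := exists_third h3 i j
  exact ⟨_, _, transvection_commutator hki.symm hkj hij c⟩

/-! ### Simplicity of `PSL` -/

open scoped LinearAlgebra.Projectivization

theorem transvection_mem_lineStab {i j : ι} (hij : i ≠ j) (b : F) :
    SpecialLinearGroup.transvection hij b ∈
      SpecialLinearGroup.lineStab (Submodule.span F {(Pi.single i (1 : F) : ι → F)}) :=
  SL2Gen.transvection_mem_lineStab hij b

theorem iSup_lineStab :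
    (⨆ p : ℙ F (ι → F), SpecialLinearGroup.lineStab p.submodule) = (⊤ : Subgroup (SpecialLinearGroup ι F)) := by
  refine eq_top_of_transvection_mem _ fun i j hij c => ?_
  refine Subgroup.mem_iSup_of_mem (Projectivization.mk F (Pi.single i (1 : F)) (Pi.single_ne_zero_iff.2 one_ne_zero)) ?_
  rw [Projectivization.submodule_mk]
  exact transvection_mem_lineStab hij c

/-- The Iwasawa structure of `PSL` on projective space. -/
noncomputable def pslIwasawa :
    MulAction.IwasawaStructure (ProjectiveSpecialLinearGroup ι F) (ℙ F (ι → F)) where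
  T := PSL.iwasawaT
  is_comm p := by
    have hSL : IsMulCommutative (SpecialLinearGroup.lineStab (F := F) (ι := ι) p.submodule) := by
      rw [← Projectivization.mk_rep p, Projectivization.submodule_mk]
      exact SpecialLinearGroup.lineStab_isMulCommutative_of_span p.rep p.rep_nonzero
    exact Subgroup.map_isMulCommutative _ _
  is_conj g p := by
    obtain ⟨g_SL, rfl⟩ := QuotientGroup.mk_surjective g
    rw [Matrix.ProjectiveSpecialLinearGroup.smul_proj_mk]
    change Subgroup.map _ _ = _
    rw [PSL.smul_submodule, Matrix.SpecialLinearGroup.lineStab_smul, PSL.iwasawaT_map_conj]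
  is_generator := by
    have step1 : iSup (PSL.iwasawaT (F := F) (ι := ι)) =
        Subgroup.map (QuotientGroup.mk' (Subgroup.center (SpecialLinearGroup ι F)))
          (⨆ p : ℙ F (ι → F), SpecialLinearGroup.lineStab p.submodule) := by
      rw [Subgroup.map_iSup]
    rw [step1, iSup_lineStab]
    exact Subgroup.map_top_of_surjective _ (QuotientGroup.mk'_surjective _)

theorem isSimpleGroup_PSL (h3 : 3 ≤ Fintype.card ι) :
    IsSimpleGroup (ProjectiveSpecialLinearGroup ι F) := by
  haveI : Nontrivial ι := Fintype.one_lt_card_iff_nontrivial.mp (by omega)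
  haveI : Nontrivial (ProjectiveSpecialLinearGroup ι F) := SL2Simple.PSL_nontrivial
  refine MulAction.IwasawaStructure.isSimpleGroup ?_ pslIwasawa inferInstance
  haveI : Group.IsPerfect (SpecialLinearGroup ι F) := ⟨SL_commutator_eq_top h3⟩
  exact Group.IsPerfect.commutator_eq_top

/-- Simplicity of `PSL_n` in all non-exceptional cases. -/
theorem isSimpleGroup_PSL_fin [Finite F] {n : ℕ} (hn : 2 ≤ n) (h2 : n = 2 → 4 ≤ Nat.card F) :
    IsSimpleGroup (ProjectiveSpecialLinearGroup (Fin n) F) := by
  rcases eq_or_lt_of_le hn with rfl | h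
  · exact ProjectiveSpecialLinearGroup.rank_two_simple (h2 rfl)
  · exact isSimpleGroup_PSL (by rw [Fintype.card_fin]; omega)

end Cfsg.Lib.Classical
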