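import Mathlib

set_option autoImplicit false

/-! A version of the Iwasawa criterion for a quotient by the kernel of the action. -/

namespace Cfsg.Lib.Classical

/-- If a perfect group has an Iwasawa structure for a quasiprimitive action and `Z` contains the kernel
of the action, `Z ≠ ⊤`, then every quotient `G ⧸ Z` is simple. -/
theorem isSimpleGroup_quotient_of_iwasawa {G : Type*} [Group G] {α : Type*} [MulAction G α]
    [MulAction.IsQuasiPreprimitive G α] (I : MulAction.IwasawaStructure G α)
    (hperf : commutator G = ⊤) (Z : Subgroup G) [Z.Normal]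
    (hker : ∀ g : G, (∀ x : α, g • x = x) → g ∈ Z) (hne : Z ≠ ⊤) : IsSimpleGroup (G ⧸ Z) := by
  haveI : Nontrivial (G ⧸ Z) := QuotientGroup.nontrivial_iff.mpr hne
  refine ⟨fun N hN => ?_⟩
  by_cases hfix : MulAction.fixedPoints (N.comap (QuotientGroup.mk' Z)) α = Set.univ
  · left
    rw [eq_bot_iff]
    intro x hx
    obtain ⟨g, rfl⟩ := QuotientGroup.mk'_surjective Z x
    rw [Subgroup.mem_bot]
    refine (QuotientGroup.eq_one_iff g).mpr (hker g fun a => ?_)
    exact (Set.eq_univ_iff_forall.mp hfix a) ⟨g, hx⟩
  · right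
    have h := I.commutator_le (N.comap (QuotientGroup.mk' Z)) hfix
    rw [hperf, top_le_iff] at h
    rw [eq_top_iff]
    intro x _
    obtain ⟨g, rfl⟩ := QuotientGroup.mk'_surjective Z x
    exact Subgroup.mem_comap.mp (h ▸ Subgroup.mem_top g)

end Cfsg.Lib.Classical
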