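import Mathlib
import Cfsg.Prelude.Def_GeometricClasses
import Cfsg.Agent.Classical.Symp.Matrix
import Cfsg.Agent.Classical.Transv.Basic

set_option autoImplicit false
set_option linter.unusedVariables false
set_option linter.unusedSimpArgs false
set_option linter.style.haveILetI false

/-! Transfer of maximality statements between matrix groups and isometry groups. -/

namespace Cfsg.Lib.Classical

universe u

/-- If `φ` is injective with range `K`, then `M ⊓ K` is maximal in `K` as soon as its preimage is a coatom. -/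
theorem isMaximalIn_of_isCoatom_comap {G : Type*} [Group G] {A : Type*} [Group A] (φ : A →* G)
    {K M : Subgroup G} (hK : φ.range = K) (h : IsCoatom (M.comap φ)) :
    Cfsg.Geo.IsMaximalIn K (M ⊓ K) := by
  subst hK
  refine ⟨lt_of_le_of_ne inf_le_right fun he => h.1 ?_, fun N hN1 hN2 => ?_⟩
  · rw [eq_top_iff]
    intro a _
    exact ((he.symm ▸ ⟨a, rfl⟩ : φ a ∈ M ⊓ φ.range)).1
  · have hle : M.comap φ ≤ N.comap φ := fun a ha => hN1 ⟨ha, ⟨a, rfl⟩⟩
    rcases eq_or_lt_of_le hle with he | hlt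
    · left
      refine le_antisymm (fun x hx => ?_) hN1
      obtain ⟨a, rfl⟩ := hN2 hx
      exact ⟨(SetLike.ext_iff.mp he a).mpr hx, ⟨a, rfl⟩⟩
    · right
      refine le_antisymm hN2 ?_
      rintro _ ⟨a, rfl⟩
      have := h.2 _ hlt
      exact (this ▸ Subgroup.mem_top a : a ∈ N.comap φ)

/-- A proper subgroup is a coatom if adding any outside element gives everything. -/
theorem isCoatom_of_forall {G : Type*} [Group G] {M : Subgroup G} (hne : M ≠ ⊤)
    (h : ∀ H : Subgroup G, M ≤ H → ∀ g ∈ H, g ∉ M → H = ⊤) : IsCoatom M := by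
  refine ⟨hne, fun H hlt => ?_⟩
  obtain ⟨g, hg, hg'⟩ := SetLike.exists_of_lt hlt
  exact h H hlt.le g hg hg'

variable {F : Type u} [Field F]

/-- Linear automorphisms of `ι → F` as invertible matrices. -/
noncomputable def linToGL (ι : Type) [Fintype ι] [DecidableEq ι] (F : Type u) [Field F] :
    ((ι → F) ≃ₗ[F] (ι → F)) ≃* Matrix.GeneralLinearGroup ι F :=
  (LinearMap.GeneralLinearGroup.generalLinearEquiv F (ι → F)).symm.trans
    Matrix.GeneralLinearGroup.toLin.symm

theorem linToGL_mulVec {ι : Type} [Fintype ι] [DecidableEq ι] (g : (ι → F) ≃ₗ[F] (ι → F)) (x : ι → F) :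
    ((linToGL ι F g : Matrix.GeneralLinearGroup ι F) : Matrix ι ι F).mulVec x = g x :=
  LinearMap.toMatrix'_mulVec _ x

theorem linToGL_symm_apply {ι : Type} [Fintype ι] [DecidableEq ι] (A : Matrix.GeneralLinearGroup ι F)
    (x : ι → F) : ((linToGL ι F).symm A) x = (A : Matrix ι ι F).mulVec x := rfl

theorem map_toLin'_linToGL {ι : Type} [Fintype ι] [DecidableEq ι] (g : (ι → F) ≃ₗ[F] (ι → F))
    (W : Submodule F (ι → F)) :
    W.map (Matrix.toLin' ((linToGL ι F g : Matrix.GeneralLinearGroup ι F) : Matrix ι ι F)) =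
      W.map g.toLinearMap := by
  congr 1
  exact LinearMap.ext fun x => by rw [Matrix.toLin'_apply, linToGL_mulVec]; rfl

/-- The isometry group of `sympBilin` inside `GL`. -/
noncomputable def sympToGL (m : ℕ) (F : Type u) [Field F] :
    BilinIsom (sympBilin m F) →* Matrix.GeneralLinearGroup (Fin m ⊕ Fin m) F :=
  (linToGL (Fin m ⊕ Fin m) F).toMonoidHom.comp (BilinIsom (sympBilin m F)).subtype

theorem sympToGL_mulVec {m : ℕ} (g : BilinIsom (sympBilin m F)) (x : Fin m ⊕ Fin m → F) :
    ((sympToGL m F g : Matrix.GeneralLinearGroup (Fin m ⊕ Fin m) F) :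
      Matrix (Fin m ⊕ Fin m) (Fin m ⊕ Fin m) F).mulVec x = (g : (Fin m ⊕ Fin m → F) ≃ₗ[F] _) x :=
  linToGL_mulVec _ x

theorem range_sympToGL (m : ℕ) : (sympToGL m F).range = Cfsg.spGL m F := by
  ext A
  constructor
  · rintro ⟨g, rfl⟩ u v
    change Cfsg.sympForm m F ((sympToGL m F g).val.mulVec u) ((sympToGL m F g).val.mulVec v) = _
    rw [sympToGL_mulVec, sympToGL_mulVec, ← sympBilin_eq_sympForm, BilinIsom.map_form,
      sympBilin_eq_sympForm]
  · intro hA
    refine ⟨⟨(linToGL _ F).symm A, fun x y => ?_⟩, (linToGL _ F).apply_symm_apply A⟩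
    rw [linToGL_symm_apply, linToGL_symm_apply, sympBilin_eq_sympForm, sympBilin_eq_sympForm]
    exact hA x y

/-- Membership of an isometry in a matrix subspace stabiliser. -/
theorem sympToGL_mem_subspaceStabilizer {m : ℕ} (g : BilinIsom (sympBilin m F))
    (W : Submodule F (Fin m ⊕ Fin m → F)) :
    sympToGL m F g ∈ Cfsg.Geo.subspaceStabilizer W ↔
      ∀ x, x ∈ W ↔ (g : (Fin m ⊕ Fin m → F) ≃ₗ[F] _) x ∈ W := by
  refine forall_congr' fun x => ?_
  change (x ∈ W ↔ (sympToGL m F g).val.mulVec x ∈ W) ↔ _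
  rw [sympToGL_mulVec]

theorem mem_decompositionStabilizer_iff {ι : Type} [Fintype ι] [DecidableEq ι] {t : ℕ}
    (D : Fin t → Submodule F (ι → F)) (g : (ι → F) ≃ₗ[F] (ι → F)) :
    linToGL ι F g ∈ Cfsg.Geo.decompositionStabilizer D ↔
      ∃ σ : Equiv.Perm (Fin t), ∀ i, (D i).map g.toLinearMap = D (σ i) := by
  refine exists_congr fun σ => forall_congr' fun i => ?_
  rw [map_toLin'_linToGL]

/-- `slGroup` of `ι → F` inside `GL`. -/
noncomputable def slToGL (ι : Type) [Fintype ι] [DecidableEq ι] (F : Type u) [Field F] :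
    slGroup F (ι → F) →* Matrix.GeneralLinearGroup ι F :=
  (linToGL ι F).toMonoidHom.comp (slGroup F (ι → F)).subtype

theorem slToGL_mulVec {ι : Type} [Fintype ι] [DecidableEq ι] (g : slGroup F (ι → F)) (x : ι → F) :
    ((slToGL ι F g : Matrix.GeneralLinearGroup ι F) : Matrix ι ι F).mulVec x =
      (g : (ι → F) ≃ₗ[F] _) x :=
  linToGL_mulVec _ x

theorem range_slToGL (ι : Type) [Fintype ι] [DecidableEq ι] :
    (slToGL ι F).range = Cfsg.Geo.specialLinear ι F := by
  have key : ∀ g : (ι → F) ≃ₗ[F] (ι → F),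
      Matrix.GeneralLinearGroup.det (linToGL ι F g) = LinearEquiv.det g := fun g => by
    apply Units.ext
    rw [Matrix.GeneralLinearGroup.val_det_apply, LinearEquiv.coe_det, ← LinearMap.det_toLin']
    congr 1
    exact LinearMap.ext fun x => by rw [Matrix.toLin'_apply, linToGL_mulVec]; rfl
  ext A
  constructor
  · rintro ⟨g, rfl⟩
    exact (key g.1).trans g.2
  · intro hA
    refine ⟨⟨(linToGL _ F).symm A, ?_⟩, (linToGL _ F).apply_symm_apply A⟩
    rw [slGroup, MonoidHom.mem_ker, ← key, MulEquiv.apply_symm_apply]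
    exact hA

end Cfsg.Lib.Classical
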