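import Mathlib
import Cfsg.Agent.Known.AutPSL2

/-!
Sylow 2-subgroups of `PSL₂(q)`, `q² ≡ 1 (mod 16)`, are dihedral of order at least 8; involutions
are conjugate.
-/

set_option autoImplicit false

namespace Cfsg.Lib.PSLTwoDihedral

open Subgroup

section Dihedral

variable {G : Type*} [Group G]

/-- `c` of order `2^n` with `n ≥ 2`, inverted by the involution `t` outside `⟨c⟩`, generating `S`. -/
structure IsGen (S : Subgroup G) (c t : G) (n : ℕ) : Prop where
  two_le : 2 ≤ n
  order : orderOf c = 2 ^ n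
  inv : t * c * t⁻¹ = c⁻¹
  invol : t * t = 1
  notMem : t ∉ zpowers c
  sup : zpowers c ⊔ zpowers t = S

variable {S : Subgroup G} {c t : G} {n : ℕ}

theorem IsGen.conj_zpow (h : IsGen S c t n) (i : ℤ) : t * c ^ i * t⁻¹ = c ^ (-i) := by
  rw [← _root_.conj_zpow, h.inv, inv_zpow, _root_.zpow_neg]

theorem IsGen.mem_iff (h : IsGen S c t n) {x : G} :
    x ∈ S ↔ x ∈ zpowers c ∨ ∃ i : ℤ, x = c ^ i * t := by
  constructor
  · intro hx
    have hn : zpowers t ≤ normalizer (zpowers c : Set G) := zpowers_le.mpr <|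
      mem_normalizer_iff.mpr fun y => by
        constructor
        · rintro ⟨i, rfl⟩
          exact ⟨-i, (h.conj_zpow i).symm⟩
        · rintro ⟨i, hi⟩
          refine ⟨-i, ?_⟩
          have h1 := h.conj_zpow (-i)
          rw [neg_neg] at h1
          have h2 : c ^ i = t * y * t⁻¹ := hi
          rw [← h1] at h2
          exact mul_left_cancel (mul_right_cancel h2)
    rw [← h.sup, ← SetLike.mem_coe, coe_mul_of_right_le_normalizer_left _ _ hn] at hx
    obtain ⟨_, ⟨i, rfl⟩, _, ⟨j, rfl⟩, rfl⟩ := hx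
    rcases Int.even_or_odd j with ⟨k, rfl⟩ | ⟨k, rfl⟩
    · left
      simp [_root_.zpow_add, ← (Commute.refl t).mul_zpow, h.invol]
    · refine Or.inr ⟨i, ?_⟩
      simp only [show (2 : ℤ) * k + 1 = k + k + 1 by ring, _root_.zpow_add, zpow_one,
        ← (Commute.refl t).mul_zpow, h.invol, one_zpow, one_mul]
  · rintro (hx | ⟨i, rfl⟩) <;> rw [← h.sup]
    · exact mem_sup_left hx
    · exact mul_mem (mem_sup_left ⟨i, rfl⟩) (mem_sup_right (mem_zpowers t))

theorem IsGen.refl_sq (h : IsGen S c t n) (i : ℤ) : (c ^ i * t) * (c ^ i * t) = 1 := by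
  have e : t⁻¹ = t := inv_eq_of_mul_eq_one_right h.invol
  have h1 := h.conj_zpow i
  rw [e] at h1
  rw [show c ^ i * t * (c ^ i * t) = c ^ i * (t * c ^ i * t) by group, h1, ← zpow_add, add_neg_cancel, zpow_zero]

theorem IsGen.refl_notMem (h : IsGen S c t n) (i : ℤ) : c ^ i * t ∉ zpowers c := fun hm =>
  h.notMem (by simpa using (zpowers c).mul_mem ((zpowers c).inv_mem ⟨i, rfl⟩) hm)

theorem IsGen.card (h : IsGen S c t n) : Nat.card S = 2 ^ (n + 1) := by
  let f : zpowers c ⊕ zpowers c → S := Sum.elim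
    (fun x => ⟨x, h.mem_iff.mpr (Or.inl x.2)⟩)
    (fun x => ⟨x * t, by
      obtain ⟨i, hi⟩ := x.2
      exact h.mem_iff.mpr (Or.inr ⟨i, by rw [← hi]⟩)⟩)
  have hb : Function.Bijective f := by
    refine ⟨?_, fun x => ?_⟩
    · rintro (a | a) (b | b) e <;> have e' := congrArg Subtype.val e <;>
        simp only [f, Sum.elim_inl, Sum.elim_inr] at e'
      · rw [Subtype.ext e']
      · exact absurd ((mul_mem_cancel_left b.2).mp (e' ▸ a.2)) h.notMem
      · exact absurd ((mul_mem_cancel_left a.2).mp (e' ▸ b.2)) h.notMem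
      · rw [Subtype.ext (mul_right_cancel e')]
    · rcases h.mem_iff.mp x.2 with hx | ⟨i, hi⟩
      · exact ⟨Sum.inl ⟨x, hx⟩, rfl⟩
      · exact ⟨Sum.inr ⟨c ^ i, i, rfl⟩, Subtype.ext hi.symm⟩
  have hf : Finite (zpowers c) := Nat.finite_of_card_ne_zero (by
    rw [Nat.card_zpowers, h.order]; exact pow_ne_zero _ two_ne_zero)
  rw [← Nat.card_congr (Equiv.ofBijective f hb), Nat.card_sum, Nat.card_zpowers, h.order, pow_succ]
  ring

theorem IsGen.conj (h : IsGen S c t n) (g : G) :
    IsGen (S.map (MulAut.conj g).toMonoidHom) (g * c * g⁻¹) (g * t * g⁻¹) n where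
  two_le := h.two_le
  order := ((MulAut.conj g).orderOf_eq c).trans h.order
  inv := by
    rw [show g * t * g⁻¹ * (g * c * g⁻¹) * (g * t * g⁻¹)⁻¹ = g * (t * c * t⁻¹) * g⁻¹ by group, h.inv]
    group
  invol := by
    rw [show g * t * g⁻¹ * (g * t * g⁻¹) = g * (t * t) * g⁻¹ by group, h.invol]
    group
  notMem := fun ⟨i, hi⟩ => h.notMem ⟨i, by
    have hi' : (g * c * g⁻¹) ^ i = g * t * g⁻¹ := hi
    rw [_root_.conj_zpow] at hi'
    exact mul_left_cancel (mul_right_cancel hi')⟩
  sup := by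
    rw [← h.sup, Subgroup.map_sup, MonoidHom.map_zpowers, MonoidHom.map_zpowers]
    rfl

theorem IsGen.closure_eq (h : IsGen S c t n) :
    closure {x : G | x ∈ S ∧ orderOf x = 2} = S := by
  refine le_antisymm ((closure_le _).mpr fun x hx => hx.1) ?_
  have hm : ∀ i : ℤ, c ^ i * t ∈ closure {x : G | x ∈ S ∧ orderOf x = 2} := fun i =>
    subset_closure ⟨h.mem_iff.mpr (Or.inr ⟨i, rfl⟩), orderOf_eq_prime (by rw [sq]; exact h.refl_sq i)
      fun e => h.refl_notMem i (e ▸ one_mem _)⟩
  have ht := hm 0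
  rw [zpow_zero, one_mul] at ht
  have hc := mul_mem (hm 1) (inv_mem ht)
  rw [zpow_one, mul_inv_cancel_right] at hc
  conv_lhs => rw [← h.sup]
  exact sup_le (zpowers_le.mpr hc) (zpowers_le.mpr ht)

theorem IsGen.isPGroup_mulAut (h : IsGen S c t n) : IsPGroup 2 (MulAut S) := by
  intro α
  have hcS : c ∈ S := h.mem_iff.mpr (Or.inl (mem_zpowers c))
  have htS : t ∈ S := h.mem_iff.mpr (Or.inr ⟨0, by simp⟩)
  have hn := h.two_le
  haveI : Finite S := Nat.finite_of_card_ne_zero (by rw [h.card]; exact pow_ne_zero _ two_ne_zero)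
  -- images of `c`
  have hzc : ∀ β : MulAut S, ((β ⟨c, hcS⟩ : S) : G) ∈ zpowers c := fun β => by
    refine (h.mem_iff.mp (β ⟨c, hcS⟩).2).resolve_right ?_
    rintro ⟨i, hi⟩
    have h2 : orderOf ((β ⟨c, hcS⟩ : S) : G) ∣ 2 :=
      orderOf_dvd_of_pow_eq_one (by rw [sq, hi, h.refl_sq i])
    rw [Subgroup.orderOf_coe, β.orderOf_eq, Subgroup.orderOf_mk, h.order] at h2
    have h4 := Nat.le_of_dvd two_pos h2
    have : 2 ^ 2 ≤ 2 ^ n := Nat.pow_le_pow_right two_pos hn
    omega
  obtain ⟨i, hi⟩ := hzc α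
  have hiter : ∀ k : ℕ, (((α ^ k) ⟨c, hcS⟩ : S) : G) = c ^ (i ^ k) := by
    intro k
    induction k with
    | zero => simp
    | succ k ih =>
      rw [pow_succ, MulAut.mul_apply,
        show α ⟨c, hcS⟩ = (⟨c, hcS⟩ : S) ^ i from Subtype.ext hi.symm, map_zpow, Subgroup.coe_zpow,
        ih, ← zpow_mul, pow_succ]
  -- `i` is a unit modulo `2 ^ n`
  have hodd : Odd i := by
    rcases Int.even_or_odd i with ⟨j, rfl⟩ | ho
    · exfalso
      have h2 : orderOf ((α ⟨c, hcS⟩ : S) : G) = 2 ^ n := by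
        rw [Subgroup.orderOf_coe, α.orderOf_eq, Subgroup.orderOf_mk, h.order]
      have h3 : (c ^ (j + j)) ^ (2 ^ (n - 1)) = 1 := by
        rw [← zpow_natCast, ← zpow_mul,
          show (j + j) * ((2 ^ (n - 1) : ℕ) : ℤ) = ((2 ^ n : ℕ) : ℤ) * j by
            rw [show n = n - 1 + 1 by omega, Nat.add_sub_cancel]; push_cast; ring,
          zpow_mul, zpow_natCast, ← h.order, pow_orderOf_eq_one, one_zpow]
      have h4 := orderOf_dvd_of_pow_eq_one h3
      rw [show c ^ (j + j) = ((α ⟨c, hcS⟩ : S) : G) from hi, h2,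
        Nat.pow_dvd_pow_iff_le_right one_lt_two] at h4
      omega
    · exact ho
  haveI : NeZero (2 ^ n) := ⟨pow_ne_zero _ two_ne_zero⟩
  have hunit : IsUnit ((i : ℤ) : ZMod (2 ^ n)) := by
    obtain ⟨j, rfl⟩ := hodd
    have hnil : IsNilpotent ((2 : ZMod (2 ^ n)) * (j : ZMod (2 ^ n))) := by
      refine ⟨n, ?_⟩
      rw [mul_pow, show (2 : ZMod (2 ^ n)) ^ n = ((2 ^ n : ℕ) : ZMod (2 ^ n)) from (Nat.cast_pow 2 n).symm,
        ZMod.natCast_self, zero_mul]
    push_cast
    exact hnil.isUnit_add_one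
  set k := 2 ^ (n - 1)
  have hk : ((α ^ k) ⟨c, hcS⟩ : S) = (⟨c, hcS⟩ : S) := by
    refine Subtype.ext ?_
    rw [hiter]
    show c ^ (i ^ k) = c
    conv_rhs => rw [← zpow_one c]
    rw [zpow_eq_zpow_iff_modEq, h.order]
    rw [← ZMod.intCast_eq_intCast_iff]
    push_cast
    obtain ⟨u, hu⟩ := hunit
    rw [← hu, ← Units.val_pow_eq_pow_val,
      show u ^ k = 1 from ?_, Units.val_one]
    have h1 := ZMod.pow_totient u
    rw [Nat.totient_prime_pow Nat.prime_two (by omega : 0 < n)] at h1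
    simpa [k] using h1
  obtain ⟨j, hj⟩ : ∃ j : ℤ, (((α ^ k) ⟨t, htS⟩ : S) : G) = c ^ j * t := by
    refine (h.mem_iff.mp ((α ^ k) ⟨t, htS⟩).2).resolve_left ?_
    rintro ⟨j, hj⟩
    have e : (α ^ k) ((⟨c, hcS⟩ : S) ^ j) = (α ^ k) ⟨t, htS⟩ := by
      rw [map_zpow, hk]
      exact Subtype.ext hj
    exact h.notMem ⟨j, congrArg Subtype.val ((α ^ k).injective e)⟩
  have hiter2 : ∀ m : ℕ, ((((α ^ k) ^ m) ⟨t, htS⟩ : S) : G) = c ^ (j * m) * t := by
    intro m
    induction m with
    | zero => simp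
    | succ m ih =>
      rw [pow_succ', MulAut.mul_apply,
        show ((α ^ k) ^ m) ⟨t, htS⟩ = (⟨c, hcS⟩ : S) ^ (j * m) * ⟨t, htS⟩ from
          Subtype.ext ih, map_mul, map_zpow, hk, Subgroup.coe_mul, Subgroup.coe_zpow, hj, ← mul_assoc,
        ← _root_.zpow_add]
      congr 2
      push_cast
      ring
  have hfix : ∀ m : ℕ, ((α ^ k) ^ m) ⟨c, hcS⟩ = ⟨c, hcS⟩ := by
    intro m
    induction m with
    | zero => simp
    | succ m ih => rw [pow_succ', MulAut.mul_apply, ih, hk]
  have hone : (α ^ k) ^ (2 ^ n) = 1 := by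
    refine MulEquiv.ext fun x => ?_
    have ht' : ((α ^ k) ^ (2 ^ n)) ⟨t, htS⟩ = ⟨t, htS⟩ := Subtype.ext (by
      rw [hiter2, mul_comm j, zpow_mul, zpow_natCast, ← h.order, pow_orderOf_eq_one, one_zpow,
        one_mul])
    rcases h.mem_iff.mp x.2 with ⟨a, ha⟩ | ⟨a, ha⟩
    · rw [show x = (⟨c, hcS⟩ : S) ^ a from Subtype.ext ha.symm, map_zpow, hfix]
      rfl
    · rw [show x = (⟨c, hcS⟩ : S) ^ a * ⟨t, htS⟩ from Subtype.ext ha, map_mul, map_zpow, hfix, ht']
      rfl
  refine ⟨n - 1 + n, ?_⟩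
  rw [pow_add, pow_mul]
  exact hone

end Dihedral

section PSL

open Matrix

variable {F : Type*} [Field F]

local notation "S₂" => Matrix.SpecialLinearGroup (Fin 2) F
local notation "P₂" => Matrix.ProjectiveSpecialLinearGroup (Fin 2) F

open Cfsg.Lib.Known.AutPSL2 (π sl_ext cmul)

/-- A binary quadratic form represents everything nonzero. -/
theorem exists_norm_eq [Fintype F] (hodd : Fintype.card F % 2 = 1) {d : F} (hd : d ≠ 0) (c : F) :
    ∃ a b : F, a ^ 2 - d * b ^ 2 = c := by
  open Polynomial in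
  obtain ⟨a, b, h⟩ := FiniteField.exists_root_sum_quadratic
    (f := C (1 : F) * X ^ 2 + C 0 * X + C 0) (g := C (-d) * X ^ 2 + C 0 * X + C (-c))
    (degree_quadratic one_ne_zero) (degree_quadratic (neg_ne_zero.mpr hd)) hodd
  simp only [eval_add, eval_mul, eval_C, eval_pow, eval_X, one_mul, zero_mul, add_zero] at h
  exact ⟨a, b, by linear_combination h⟩

theorem two_ne_zero' [Fintype F] (hodd : Fintype.card F % 2 = 1) : (2 : F) ≠ 0 := by
  refine Ring.two_ne_zero fun h => ?_
  have := FiniteField.even_card_of_char_two h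
  omega

/-- The element `!![0, -1; 1, 0]`. -/
def wS : S₂ := ⟨!![0, -1; 1, 0], by simp [det_fin_two]⟩

theorem trace_zero_of_sq {g : S₂}
    (h : (g : Matrix (Fin 2) (Fin 2) F) * g = -1) :
    (g : Matrix (Fin 2) (Fin 2) F) 1 1 = -(g : Matrix (Fin 2) (Fin 2) F) 0 0 := by
  have hdet := g.2
  rw [det_fin_two] at hdet
  have e := fun i j => congrFun (congrFun h i) j
  have e00 := e 0 0
  have e11 := e 1 1
  have e01 := e 0 1
  have e10 := e 1 0
  simp only [Matrix.mul_apply, Fin.sum_univ_two, Matrix.neg_apply, Matrix.one_apply_eq,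
    Matrix.one_apply_ne (show (0 : Fin 2) ≠ 1 by decide),
    Matrix.one_apply_ne (show (1 : Fin 2) ≠ 0 by decide), neg_zero] at e00 e11 e01 e10
  generalize (g : Matrix (Fin 2) (Fin 2) F) 0 0 = a at *
  generalize (g : Matrix (Fin 2) (Fin 2) F) 0 1 = b at *
  generalize (g : Matrix (Fin 2) (Fin 2) F) 1 0 = c at *
  generalize (g : Matrix (Fin 2) (Fin 2) F) 1 1 = d at *
  have h1 : (a + d) * a = 0 := by linear_combination e00 + hdet
  have h2 : (a + d) * d = 0 := by linear_combination e11 + hdet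
  have h3 : (a + d) * (a + d) = 0 := by linear_combination h1 + h2
  rcases mul_eq_zero.mp h3 with h4 | h4 <;> linear_combination h4

/-- Elements squaring to `-1` are conjugate. -/
theorem exists_conj_wS [Fintype F] (hodd : Fintype.card F % 2 = 1) {g : S₂}
    (h : (g : Matrix (Fin 2) (Fin 2) F) * g = -1) : ∃ x : S₂, g * x = x * wS := by
  have h2 := two_ne_zero' hodd
  have htr := trace_zero_of_sq h
  have hdet := g.2
  rw [det_fin_two, htr] at hdet
  set a := (g : Matrix (Fin 2) (Fin 2) F) 0 0 with ha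
  set b := (g : Matrix (Fin 2) (Fin 2) F) 0 1 with hb
  set c := (g : Matrix (Fin 2) (Fin 2) F) 1 0 with hc
  obtain ⟨x, y, hxy⟩ : ∃ x y : F, c * x ^ 2 - 2 * a * x * y - b * y ^ 2 = 1 := by
    by_cases hc0 : c = 0
    · have ha0 : a ≠ 0 := by
        intro h0
        rw [h0, hc0] at hdet
        simp at hdet
      refine ⟨-(1 + b) / (2 * a), 1, ?_⟩
      rw [hc0]
      field_simp
      ring
    · obtain ⟨u, y, hu⟩ := exists_norm_eq hodd (d := -(c⁻¹ ^ 2)) (by simp [hc0]) c⁻¹
      refine ⟨u + a / c * y, y, ?_⟩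
      field_simp at hu ⊢
      linear_combination hu + y ^ 2 * hdet
  refine ⟨⟨!![x, a * x + b * y; y, c * x - a * y], ?_⟩, sl_ext ?_⟩
  · rw [det_fin_two_of]
    linear_combination hxy
  · show (g : Matrix (Fin 2) (Fin 2) F) * !![x, a * x + b * y; y, c * x - a * y] =
      !![x, a * x + b * y; y, c * x - a * y] * !![0, -1; 1, 0]
    have hg : (g : Matrix (Fin 2) (Fin 2) F) = !![a, b; c, -a] := by
      rw [Matrix.eta_fin_two (g : Matrix (Fin 2) (Fin 2) F), htr]
    rw [hg]
    change !![a, b; c, -a] * !![x, a * x + b * y; y, c * x - a * y] =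
      !![x, a * x + b * y; y, c * x - a * y] * !![0, -1; 1, 0]
    simp only [Matrix.mul_fin_two]
    ext i j
    fin_cases i <;> fin_cases j <;> simp <;>
      first
        | ring1
        | linear_combination -x * hdet
        | linear_combination -y * hdet

theorem π_eq_one_iff {g : S₂} :
    π g = 1 ↔ (g : Matrix (Fin 2) (Fin 2) F) = 1 ∨ (g : Matrix (Fin 2) (Fin 2) F) = -1 := by
  rw [QuotientGroup.mk'_apply, QuotientGroup.eq_one_iff, Matrix.SpecialLinearGroup.mem_center_iff]
  constructor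
  · rintro ⟨r, hr, e⟩
    rw [Fintype.card_fin] at hr
    rcases sq_eq_one_iff.mp hr with rfl | rfl
    · left; rw [← e, map_one]
    · right; rw [← e, map_neg, map_one]
  · rintro (e | e)
    · exact ⟨1, one_pow _, by rw [e, map_one]⟩
    · exact ⟨-1, by simp, by rw [e, map_neg, map_one]⟩

theorem neg_one_ne_one [Fintype F] (hodd : Fintype.card F % 2 = 1) :
    (-1 : Matrix (Fin 2) (Fin 2) F) ≠ 1 := fun h => by
  have h1 := congrFun (congrFun h 0) 0
  simp at h1
  exact two_ne_zero' hodd (by linear_combination -h1)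

/-- All involutions of `PSL₂(q)`, `q` odd, are conjugate. -/
theorem involution_conj [Fintype F] (hodd : Fintype.card F % 2 = 1) {u v : P₂}
    (hu : orderOf u = 2) (hv : orderOf v = 2) : IsConj u v := by
  suffices h : ∀ w : P₂, orderOf w = 2 → IsConj w (π wS) from (h u hu).trans (h v hv).symm
  intro w hw
  obtain ⟨g, rfl⟩ := QuotientGroup.mk'_surjective _ w
  have hne : π g ≠ 1 := fun e => by rw [e, orderOf_one] at hw; omega
  have hsq : π (g * g) = 1 := by
    have := pow_orderOf_eq_one (π g)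
    rw [hw, sq, ← map_mul] at this
    exact this
  rcases π_eq_one_iff.mp hsq with h | h
  · exfalso
    have h1 : g = g⁻¹ := eq_inv_of_mul_eq_one_left (sl_ext h)
    have h2 := congrArg (fun x : S₂ => (x : Matrix (Fin 2) (Fin 2) F)) h1
    rw [Cfsg.Lib.Known.AutPSL2.cinv, adjugate_fin_two] at h2
    have e00 := congrFun (congrFun h2 0) 0
    have e01 := congrFun (congrFun h2 0) 1
    have e10 := congrFun (congrFun h2 1) 0
    simp at e00 e01 e10
    have hb := (mul_eq_zero.mp (show (2 : F) * (g : Matrix (Fin 2) (Fin 2) F) 0 1 = 0 by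
      linear_combination e01)).resolve_left (two_ne_zero' hodd)
    have hc := (mul_eq_zero.mp (show (2 : F) * (g : Matrix (Fin 2) (Fin 2) F) 1 0 = 0 by
      linear_combination e10)).resolve_left (two_ne_zero' hodd)
    have hd := g.2
    rw [det_fin_two, hb, ← e00, zero_mul, sub_zero, ← sq] at hd
    refine hne (π_eq_one_iff.mpr ?_)
    rcases sq_eq_one_iff.mp hd with ha | ha <;> [left; right] <;>
      · rw [Matrix.eta_fin_two (g : Matrix (Fin 2) (Fin 2) F), hb, hc, ← e00, ha]
        ext i j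
        fin_cases i <;> fin_cases j <;> simp
  · obtain ⟨x, hx⟩ := exists_conj_wS hodd (g := g) (by rw [← cmul]; exact h)
    refine isConj_iff.mpr ⟨π x⁻¹, ?_⟩
    rw [← map_inv, inv_inv, ← map_mul, ← map_mul, mul_assoc, hx, inv_mul_cancel_left]

/-- The torus attached to `δ`. -/
def torus (δ : F) : Subgroup S₂ where
  carrier := {M | (M : Matrix (Fin 2) (Fin 2) F) 1 1 = (M : Matrix (Fin 2) (Fin 2) F) 0 0 ∧
    (M : Matrix (Fin 2) (Fin 2) F) 0 1 = δ * (M : Matrix (Fin 2) (Fin 2) F) 1 0}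
  one_mem' := by simp
  mul_mem' := by
    rintro M N ⟨h1, h2⟩ ⟨h3, h4⟩
    simp only [Set.mem_setOf_eq, cmul, Matrix.mul_apply, Fin.sum_univ_two, h1, h2, h3, h4]
    constructor <;> ring
  inv_mem' := by
    rintro M ⟨h1, h2⟩
    simp only [Set.mem_setOf_eq, Cfsg.Lib.Known.AutPSL2.cinv, adjugate_fin_two, of_apply, cons_val',
      cons_val_zero, cons_val_one, cons_val_fin_one, h1, h2]
    exact ⟨trivial, by ring1⟩

theorem torus_norm {δ : F} {M : S₂} (h : M ∈ torus δ) :
    (M : Matrix (Fin 2) (Fin 2) F) 0 0 ^ 2 - δ * (M : Matrix (Fin 2) (Fin 2) F) 1 0 ^ 2 = 1 := by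
  have hd := M.2
  rw [det_fin_two, h.1, h.2] at hd
  linear_combination hd

/-- The element of the torus with given first column. -/
def torusMk (δ a b : F) (h : a ^ 2 - δ * b ^ 2 = 1) : torus δ :=
  ⟨⟨!![a, δ * b; b, a], by rw [det_fin_two_of]; linear_combination h⟩, by
    constructor <;> simp⟩

theorem torus_ext {δ : F} {M N : torus δ}
    (h0 : ((M : S₂) : Matrix (Fin 2) (Fin 2) F) 0 0 = ((N : S₂) : Matrix (Fin 2) (Fin 2) F) 0 0)
    (h1 : ((M : S₂) : Matrix (Fin 2) (Fin 2) F) 1 0 = ((N : S₂) : Matrix (Fin 2) (Fin 2) F) 1 0) :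
    M = N := by
  refine Subtype.ext (sl_ext ?_)
  ext i j
  fin_cases i <;> fin_cases j <;> simp only [Fin.mk_one, Fin.zero_eta, Fin.isValue]
  · exact h0
  · rw [M.2.2, N.2.2, h1]
  · exact h1
  · rw [M.2.1, N.2.1, h0]

theorem torus_cyclic [Fintype F] (hodd : Fintype.card F % 2 = 1) {δ : F} (hδ : δ ≠ 0) :
    IsCyclic (torus δ) := by
  classical
  set K := AlgebraicClosure F
  set e := algebraMap F K
  obtain ⟨r, hr⟩ := IsAlgClosed.exists_pow_nat_eq (e δ) two_pos
  let f : torus δ →* K :=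
    { toFun := fun M => e (((M : S₂) : Matrix (Fin 2) (Fin 2) F) 0 0) +
        r * e (((M : S₂) : Matrix (Fin 2) (Fin 2) F) 1 0)
      map_one' := by simp
      map_mul' := fun M N => by
        simp only [Subgroup.coe_mul, cmul, Matrix.mul_apply, Fin.sum_univ_two, M.2.1, M.2.2,
          map_add, map_mul]
        linear_combination (-(e (((M : S₂) : Matrix (Fin 2) (Fin 2) F) 1 0) *
          e (((N : S₂) : Matrix (Fin 2) (Fin 2) F) 1 0))) * hr }
  refine isCyclic_of_subgroup_isDomain f ((injective_iff_map_eq_one f).mpr fun M hM => ?_)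
  have hn := congrArg e (torus_norm M.2)
  simp only [map_sub, map_pow, map_mul, map_one] at hn
  change e _ + r * e _ = 1 at hM
  have h1 : e (((M : S₂) : Matrix (Fin 2) (Fin 2) F) 0 0) -
      r * e (((M : S₂) : Matrix (Fin 2) (Fin 2) F) 1 0) = 1 := by
    linear_combination hn - (e (((M : S₂) : Matrix (Fin 2) (Fin 2) F) 0 0) -
      r * e (((M : S₂) : Matrix (Fin 2) (Fin 2) F) 1 0)) * hM -
      e (((M : S₂) : Matrix (Fin 2) (Fin 2) F) 1 0) ^ 2 * hr
  have h2 : (2 : K) ≠ 0 := by
    rw [← map_ofNat e 2]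
    exact (map_ne_zero e).mpr (two_ne_zero' hodd)
  have hr0 : r ≠ 0 := fun h0 => hδ (e.injective (by rw [← hr, h0, map_zero]; simp))
  have ha : e (((M : S₂) : Matrix (Fin 2) (Fin 2) F) 0 0) = 1 :=
    mul_left_cancel₀ h2 (by linear_combination hM + h1)
  have hb : e (((M : S₂) : Matrix (Fin 2) (Fin 2) F) 1 0) = 0 :=
    (mul_eq_zero.mp (show r * e (((M : S₂) : Matrix (Fin 2) (Fin 2) F) 1 0) = 0 by
      linear_combination hM - ha)).resolve_left hr0
  exact torus_ext (e.injective (by simpa using ha)) (e.injective (by simpa using hb))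

theorem card_torus_one [Fintype F] (hodd : Fintype.card F % 2 = 1) :
    Nat.card (torus (1 : F)) = Fintype.card F - 1 := by
  classical
  rw [← Fintype.card_units (α := F), ← Nat.card_eq_fintype_card]
  have h2 := two_ne_zero' hodd
  refine Nat.card_congr
    { toFun := fun M => ⟨((M : S₂) : Matrix (Fin 2) (Fin 2) F) 0 0 + ((M : S₂) : Matrix (Fin 2) (Fin 2) F) 1 0,
        ((M : S₂) : Matrix (Fin 2) (Fin 2) F) 0 0 - ((M : S₂) : Matrix (Fin 2) (Fin 2) F) 1 0,
        by linear_combination torus_norm M.2, by linear_combination torus_norm M.2⟩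
      invFun := fun u => torusMk 1 (((u : F) + (u⁻¹ : Fˣ)) / 2) (((u : F) - (u⁻¹ : Fˣ)) / 2) (by
        have := u.mul_inv
        field_simp
        linear_combination 4 * this)
      left_inv := fun M => torus_ext
        (by simp [torusMk]; field_simp; ring) (by simp [torusMk]; field_simp; ring)
      right_inv := fun u => Units.ext (by simp [torusMk]; field_simp; ring) }

theorem card_torus_nonsquare [Fintype F] (hodd : Fintype.card F % 2 = 1) {δ : F}
    (hδ : ¬ IsSquare δ) : Nat.card (torus δ) = Fintype.card F + 1 := by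
  classical
  rw [← Fintype.card_option (α := F), ← Nat.card_eq_fintype_card]
  have hden : ∀ t : F, 1 - δ * t ^ 2 ≠ 0 := fun t ht => by
    have ht0 : t ≠ 0 := fun h => by rw [h] at ht; simp at ht
    exact hδ ⟨t⁻¹, by field_simp; linear_combination -ht⟩
  have hδ0 : δ ≠ 0 := fun h => hδ (h ▸ IsSquare.zero)
  refine Nat.card_congr
    { toFun := fun M => if ((M : S₂) : Matrix (Fin 2) (Fin 2) F) 0 0 = -1 then none
        else some (((M : S₂) : Matrix (Fin 2) (Fin 2) F) 1 0 /
          (1 + ((M : S₂) : Matrix (Fin 2) (Fin 2) F) 0 0))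
      invFun := fun o => o.elim (torusMk δ (-1) 0 (by ring)) fun t =>
        torusMk δ ((1 + δ * t ^ 2) / (1 - δ * t ^ 2)) (2 * t / (1 - δ * t ^ 2)) (by
          have := hden t
          field_simp
          ring)
      left_inv := fun M => ?_
      right_inv := fun o => ?_ }
  · have hn := torus_norm M.2
    by_cases ha : ((M : S₂) : Matrix (Fin 2) (Fin 2) F) 0 0 = -1
    · simp only [if_pos ha, Option.elim_none]
      refine torus_ext (by simp [torusMk, ha]) ?_
      rw [ha] at hn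
      have : ((M : S₂) : Matrix (Fin 2) (Fin 2) F) 1 0 ^ 2 = 0 :=
        (mul_eq_zero.mp (show δ * _ = 0 by linear_combination -hn)).resolve_left hδ0
      simp [torusMk, eq_zero_of_pow_eq_zero this]
    · simp only [if_neg ha, Option.elim_some]
      generalize hA : ((M : S₂) : Matrix (Fin 2) (Fin 2) F) 0 0 = A at hn ha ⊢
      generalize hB : ((M : S₂) : Matrix (Fin 2) (Fin 2) F) 1 0 = B at hn ⊢
      have h1 : 1 + A ≠ 0 := fun h => ha (by linear_combination h)
      have hd := hden (B / (1 + A))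
      refine torus_ext ?_ ?_
      · simp only [torusMk, hA, of_apply, cons_val', cons_val_zero, cons_val_fin_one]
        rw [div_eq_iff hd]
        field_simp
        linear_combination (-(1 + A)) * hn
      · simp only [torusMk, hB, of_apply, cons_val', cons_val_zero, cons_val_one, cons_val_fin_one]
        rw [div_eq_iff hd]
        field_simp
        linear_combination (-B) * hn
  · rcases o with _ | t
    · simp [torusMk]
    · have hd := hden t
      have h2 := two_ne_zero' hodd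
      simp only [Option.elim_some, torusMk, of_apply, cons_val', cons_val_zero, cons_val_one,
        cons_val_fin_one]
      rw [if_neg (by
        rw [div_eq_iff hd]
        intro h
        exact h2 (by linear_combination h))]
      congr 1
      rw [show 1 + (1 + δ * t ^ 2) / (1 - δ * t ^ 2) = 2 / (1 - δ * t ^ 2) by field_simp; ring,
        div_div_div_cancel_right₀ hd, mul_div_cancel_left₀ t h2]

theorem card_P [Fintype F] (hodd : Fintype.card F % 2 = 1) :
    2 * Nat.card P₂ = Fintype.card F * (Fintype.card F ^ 2 - 1) := by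
  rw [← Cfsg.Lib.Known.AutPSL2.card_S (F := F), Subgroup.card_eq_card_quotient_mul_card_subgroup
    (Subgroup.center S₂), Cfsg.Lib.Classical.card_center_SL, Fintype.card_fin,
    Nat.card_eq_fintype_card (α := F)]
  obtain ⟨k, hk⟩ : 2 ∣ Fintype.card F - 1 := by omega
  rw [hk, Nat.gcd_mul_right_right]
  exact mul_comm _ _

/-- A Sylow 2-subgroup is dihedral of order at least 8. -/
theorem exists_isGen [Fintype F] (hodd : Fintype.card F % 2 = 1)
    (h16 : 16 ∣ Fintype.card F ^ 2 - 1) (S : Sylow 2 P₂) :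
    ∃ c t n, IsGen (S : Subgroup P₂) c t n := by
  classical
  set q := Fintype.card F with hq
  have h1q : 1 < q := Fintype.one_lt_card
  obtain ⟨δ, hδ, N, hN, k', hk', hsplit⟩ : ∃ δ : F, δ ≠ 0 ∧ ∃ N, Nat.card (torus δ) = N ∧
      ∃ k', Odd k' ∧ q ^ 2 - 1 = N * (2 * k') := by
    have hfac : q ^ 2 - 1 = (q - 1) * (q + 1) := by
      rw [mul_comm, show (q + 1) * (q - 1) = (q + 1) * (q - 1) from rfl, ← Nat.sq_sub_sq, one_pow]
    rcases Nat.lt_or_ge (q % 4) 2 with h4 | h4
    · refine ⟨1, one_ne_zero, _, card_torus_one hodd, (q + 1) / 2, ?_, ?_⟩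
      · rw [Nat.odd_iff]; omega
      · rw [hfac]; congr 1; omega
    · obtain ⟨δ, hδ⟩ := FiniteField.exists_nonsquare (F := F) fun h => by
        have := FiniteField.even_card_of_char_two h
        omega
      refine ⟨δ, fun h => hδ (h ▸ IsSquare.zero), _, card_torus_nonsquare hodd hδ, (q - 1) / 2, ?_, ?_⟩
      · rw [Nat.odd_iff]; omega
      · rw [hfac, mul_comm]; congr 1; omega
  obtain ⟨m, k, hk, hNk⟩ := Nat.exists_eq_two_pow_mul_odd (n := N) (by
    rintro rfl
    have : q ^ 2 ≤ 1 := by omega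
    have : q * q ≤ 1 := by rwa [sq] at this
    nlinarith)
  have hm3 : 3 ≤ m := by
    by_contra hlt
    rw [hsplit, hNk, show 2 ^ m * k * (2 * k') = 2 ^ (m + 1) * (k * k') by ring] at h16
    have h1 : Nat.Coprime (2 ^ 4) (k * k') :=
      Nat.Coprime.pow_left _ ((Nat.coprime_two_left).mpr (hk.mul hk'))
    have h2 := (Nat.pow_dvd_pow_iff_le_right one_lt_two).mp (h1.dvd_of_dvd_mul_right h16)
    omega
  haveI := torus_cyclic hodd hδ
  obtain ⟨g, hg⟩ := IsCyclic.exists_ofOrder_eq_natCard (α := torus δ)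
  set a : S₂ := ((g ^ k : torus δ) : S₂) with ha
  have haord : orderOf a = 2 ^ m := by
    rw [ha, Subgroup.orderOf_coe, orderOf_pow' _ (by rintro rfl; simp at hk), hg, hN, hNk,
      Nat.gcd_mul_left_left, Nat.mul_div_cancel]
    exact hk.pos
  obtain ⟨x, y, hxy⟩ := exists_norm_eq hodd hδ (-1)
  let τ : S₂ := ⟨!![x, -(δ * y); y, -x], by rw [det_fin_two_of]; linear_combination -hxy⟩
  have hττ : π (τ * τ) = 1 := π_eq_one_iff.mpr <| Or.inr <| by
    rw [cmul]
    ext i j
    fin_cases i <;> fin_cases j <;> simp [τ, Matrix.mul_apply, Fin.sum_univ_two] <;>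
      first
        | ring1
        | linear_combination hxy
  have hconj : ∀ M ∈ torus δ, τ * M = M⁻¹ * τ := by
    intro M hM
    refine sl_ext ?_
    rw [cmul, cmul, Cfsg.Lib.Known.AutPSL2.cinv, adjugate_fin_two]
    ext i j
    fin_cases i <;> fin_cases j <;>
      simp [τ, Matrix.mul_apply, Fin.sum_univ_two, hM.1, hM.2] <;> ring
  have hcomm : ∀ M ∈ torus δ, ∀ N ∈ torus δ, M * N = N * M := fun M hM N hN' =>
    haveI : IsMulCommutative (torus δ) := IsCyclic.commutative
    congrArg Subtype.val (mul_comm' (⟨M, hM⟩ : torus δ) ⟨N, hN'⟩)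
  have hneg : ∀ z : S₂, π z = 1 → z ∈ torus δ := fun z hz => by
    rcases π_eq_one_iff.mp hz with e | e <;> constructor <;> simp [e]
  have hcard : orderOf (π a) = 2 ^ (m - 1) := by
    have hsq : a ^ 2 ^ m = 1 := haord ▸ pow_orderOf_eq_one a
    have hb : a ^ 2 ^ (m - 1) ≠ 1 := fun e => by
      have := orderOf_dvd_of_pow_eq_one e
      rw [haord, Nat.pow_dvd_pow_iff_le_right one_lt_two] at this
      omega
    rw [show m - 1 = m - 2 + 1 by omega]
    haveI : Fact (Nat.Prime 2) := ⟨Nat.prime_two⟩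
    refine orderOf_eq_prime_pow (fun e => ?_) ?_
    · rw [← map_pow] at e
      refine hb ?_
      rw [show m - 1 = m - 2 + 1 by omega, pow_succ, pow_mul, sq]
      refine sl_ext ?_
      rw [cmul]
      rcases π_eq_one_iff.mp e with e | e <;> rw [e] <;> simp
    · rw [← map_pow, show m - 2 + 1 = m - 1 by omega]
      refine π_eq_one_iff.mpr (Or.inr ?_)
      -- the only involution is `-1`
      set b := a ^ 2 ^ (m - 1) with hb'
      have hb2 : b * b = 1 := by
        rw [hb', ← pow_add, ← two_mul, ← pow_succ', show m - 1 + 1 = m by omega, hsq]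
      have h1 : b = b⁻¹ := eq_inv_of_mul_eq_one_left hb2
      have h2 := congrArg (fun x : S₂ => (x : Matrix (Fin 2) (Fin 2) F)) h1
      rw [Cfsg.Lib.Known.AutPSL2.cinv, adjugate_fin_two] at h2
      have hbT : b ∈ torus δ := pow_mem (g ^ k : torus δ).2 _
      have e10 := congrFun (congrFun h2 1) 0
      simp at e10
      have hb0 := (mul_eq_zero.mp (show (2 : F) * (b : Matrix (Fin 2) (Fin 2) F) 1 0 = 0 by
        linear_combination e10)).resolve_left (two_ne_zero' hodd)
      have hn := torus_norm hbT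
      rw [hb0] at hn
      rcases sq_eq_one_iff.mp (show (b : Matrix (Fin 2) (Fin 2) F) 0 0 ^ 2 = 1 by
        linear_combination hn) with e | e
      · exfalso
        refine hb (congrArg Subtype.val (torus_ext (M := ⟨b, hbT⟩) (N := 1) ?_ ?_))
        · simp [e]
        · simp [hb0]
      · rw [Matrix.eta_fin_two (b : Matrix (Fin 2) (Fin 2) F), hbT.1, hbT.2, hb0, e]
        ext i j
        fin_cases i <;> fin_cases j <;> simp
  have hnot : π τ ∉ zpowers (π a) := by
    rintro ⟨i, hi⟩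
    have hτT : τ ∈ torus δ := by
      have h1 : π (τ * (a ^ i)⁻¹) = 1 := by
        rw [map_mul, map_inv, map_zpow, ← show π a ^ i = π τ from hi, mul_inv_cancel]
      have := mul_mem (hneg _ h1) (zpow_mem (g ^ k : torus δ).2 i)
      rwa [inv_mul_cancel_right] at this
    have h1 := hconj a (g ^ k : torus δ).2
    rw [hcomm τ hτT a (g ^ k : torus δ).2] at h1
    have h2 : a * a = 1 := by
      have := mul_right_cancel h1
      rw [← mul_inv_cancel a]
      exact congrArg (a * ·) this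
    have h3 := orderOf_dvd_of_pow_eq_one (show a ^ 2 = 1 by rw [sq, h2])
    rw [haord] at h3
    have := Nat.le_of_dvd two_pos h3
    have : 2 ^ 3 ≤ 2 ^ m := Nat.pow_le_pow_right two_pos hm3
    omega
  have hgen : IsGen (zpowers (π a) ⊔ zpowers (π τ)) (π a) (π τ) (m - 1) :=
    ⟨by omega, hcard, by
      rw [← map_inv, ← map_inv, ← map_mul, ← map_mul, hconj a (g ^ k : torus δ).2, mul_inv_cancel_right],
      by rw [← map_mul]; exact hττ, hnot, rfl⟩
  set D := zpowers (π a) ⊔ zpowers (π τ)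
  have hDp : IsPGroup 2 D := IsPGroup.of_card (hgen.card)
  have hindex : ¬ 2 ∣ D.index := by
    intro hd
    have h1 := D.card_mul_index
    rw [hgen.card, show m - 1 + 1 = m by omega] at h1
    have h2 := card_P hodd
    rw [← h1, hsplit, hNk, show q * (2 ^ m * k * (2 * k')) = 2 * (2 ^ m * (q * k * k')) by ring] at h2
    have h3 : D.index = q * k * k' :=
      Nat.eq_of_mul_eq_mul_left (pow_pos two_pos m) (Nat.eq_of_mul_eq_mul_left two_pos h2)
    have h4 : Odd (q * k * k') := ((Nat.odd_iff.mpr hodd).mul hk).mul hk'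
    rw [h3] at hd
    exact (Nat.not_even_iff_odd.mpr h4) (even_iff_two_dvd.mpr hd)
  haveI : Fact (Nat.Prime 2) := ⟨Nat.prime_two⟩
  obtain ⟨x, hx⟩ := MulAction.exists_smul_eq P₂ (hDp.toSylow hindex) S
  refine ⟨x * π a * x⁻¹, x * π τ * x⁻¹, m - 1, ?_⟩
  have := hgen.conj x
  rwa [show D.map (MulAut.conj x).toMonoidHom = (S : Subgroup P₂) by rw [← hx]; rfl] at this

end PSL

end Cfsg.Lib.PSLTwoDihedral
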