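import Mathlib
import Cfsg.Agent.Classical.SL

set_option autoImplicit false
set_option linter.unusedVariables false
set_option linter.unusedSimpArgs false

open scoped MatrixGroups commutatorElement LinearAlgebra.Projectivization
open Matrix

namespace Cfsg.Lib.Classical

universe u v

variable {ι : Type u} [Fintype ι] [DecidableEq ι] {F : Type v} [Field F]

theorem sl_coe_mul (A B : SpecialLinearGroup ι F) :
    ((A * B : SpecialLinearGroup ι F) : Matrix ι ι F) = (A : Matrix ι ι F) * (B : Matrix ι ι F) := rfl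

theorem sl_coe_one : ((1 : SpecialLinearGroup ι F) : Matrix ι ι F) = 1 := rfl

theorem sl_inv_mul (A : SpecialLinearGroup ι F) :
    ((A⁻¹ : SpecialLinearGroup ι F) : Matrix ι ι F) * (A : Matrix ι ι F) = 1 :=
  congrArg Subtype.val (inv_mul_cancel A)

theorem sl_mul_inv (A : SpecialLinearGroup ι F) :
    (A : Matrix ι ι F) * ((A⁻¹ : SpecialLinearGroup ι F) : Matrix ι ι F) = 1 :=
  congrArg Subtype.val (mul_inv_cancel A)

theorem diag2n_conj_transvection {i j : ι} (hij : i ≠ j) (a : F) (ha : a ≠ 0) (b : F) :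
    ⁅SpecialLinearGroup.diag2n hij a ha, SpecialLinearGroup.transvection hij b⁆ =
      SpecialLinearGroup.transvection hij (b * (a ^ 2 - 1)) := by
  rw [commutatorElement_def]
  rw [mul_inv_eq_iff_eq_mul, mul_inv_eq_iff_eq_mul, ← SpecialLinearGroup.transvection_add]
  apply Subtype.ext
  change (diagonal fun k => if k = i then a else if k = j then a⁻¹ else 1) * Matrix.transvection i j b =
    Matrix.transvection i j (b * (a ^ 2 - 1) + b) * (diagonal fun k => if k = i then a else if k = j then a⁻¹ else 1)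
  ext x y
  simp [diagonal_mul, mul_diagonal, Matrix.transvection, one_apply, single_apply]
  by_cases hx : i = x ∧ j = y
  · obtain ⟨rfl, rfl⟩ := hx
    simp [hij, hij.symm]
    field_simp
    ring
  · by_cases hxy : x = y
    · subst hxy; simp [hx]
    · simp [hx, hxy]

theorem transvection_mem_commutatorSet_of_ne {a : F} (ha : a ≠ 0) (ha2 : a ^ 2 ≠ 1) {i j : ι}
    (hij : i ≠ j) (c : F) :
    SpecialLinearGroup.transvection hij c ∈ commutatorSet (SpecialLinearGroup ι F) := by
  refine ⟨SpecialLinearGroup.diag2n hij a ha, SpecialLinearGroup.transvection hij (c / (a ^ 2 - 1)), ?_⟩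
  rw [diag2n_conj_transvection, div_mul_cancel₀ _ (sub_ne_zero.mpr ha2)]

/-- `[GL, GL] = SL` except for `GL₂(2)`. -/
theorem GL_commutator_eq (h : Fintype.card ι = 2 → ∃ a : F, a ≠ 0 ∧ a ≠ 1) :
    commutator (GL ι F) = (GeneralLinearGroup.det : GL ι F →* Fˣ).ker := by
  refine le_antisymm (Abelianization.commutator_subset_ker _) ?_
  rw [← range_toGL]
  suffices hS : (commutator (GL ι F)).comap (SpecialLinearGroup.toGL : SpecialLinearGroup ι F →* GL ι F) = ⊤ by
    rintro g ⟨A, rfl⟩
    have : A ∈ (commutator (GL ι F)).comap SpecialLinearGroup.toGL := hS ▸ Subgroup.mem_top A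
    exact this
  refine eq_top_of_transvection_mem _ fun i j hij c => ?_
  rw [Subgroup.mem_comap]
  by_cases h3 : 3 ≤ Fintype.card ι
  · obtain ⟨k, hki, hkj⟩ := exists_third h3 i j
    rw [← transvection_commutator hki.symm hkj hij c, map_commutatorElement]
    exact Subgroup.commutator_mem_commutator (Subgroup.mem_top _) (Subgroup.mem_top _)
  · have h2 : Fintype.card ι = 2 := by
      have := Fintype.one_lt_card_iff.mpr ⟨i, j, hij⟩
      omega
    obtain ⟨a, ha0, ha1⟩ := h h2
    let d : ι → Fˣ := fun k => if k = i then Units.mk0 a ha0 else 1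
    let D : GL ι F := Units.map (Matrix.diagonalRingHom ι F).toMonoidHom (MulEquiv.piUnits.symm d)
    have e : ⁅D, SpecialLinearGroup.toGL (SpecialLinearGroup.transvection hij (c / (a - 1)))⁆ =
        SpecialLinearGroup.toGL (SpecialLinearGroup.transvection hij c) := by
      rw [commutatorElement_def, mul_inv_eq_iff_eq_mul, mul_inv_eq_iff_eq_mul, ← map_mul,
        ← SpecialLinearGroup.transvection_add]
      apply Units.ext
      change (diagonal fun k => ((d k : Fˣ) : F)) * Matrix.transvection i j (c / (a - 1)) =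
        Matrix.transvection i j (c + c / (a - 1)) * (diagonal fun k => ((d k : Fˣ) : F))
      ext x y
      simp [diagonal_mul, mul_diagonal, Matrix.transvection, one_apply, single_apply, d]
      by_cases hx : i = x ∧ j = y
      · obtain ⟨rfl, rfl⟩ := hx
        have : a - 1 ≠ 0 := sub_ne_zero.mpr ha1
        simp [hij, hij.symm]
        field_simp
        ring
      · by_cases hxy : x = y
        · subst hxy; simp [hx]
        · simp [hx, hxy]
    rw [← e]
    exact Subgroup.commutator_mem_commutator (Subgroup.mem_top _) (Subgroup.mem_top _)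

/-- `SL` is transitive on non-zero vectors in dimension at least two. -/
theorem exists_SL_mulVec_eq [Nontrivial ι] {v w : ι → F} (hv : v ≠ 0) (hw : w ≠ 0) :
    ∃ g : SpecialLinearGroup ι F, (g : Matrix ι ι F) *ᵥ v = w := by
  obtain ⟨i, j, hij⟩ := exists_pair_ne ι
  have key : ∀ u : ι → F, u ≠ 0 → ∃ g : SpecialLinearGroup ι F,
      (g : Matrix ι ι F) *ᵥ (Pi.single i 1) = u := by
    intro u hu
    have hp : MulAction.IsPretransitive (SpecialLinearGroup ι F) (ℙ F (ι → F)) :=
      MulAction.isPretransitive_of_is_two_pretransitive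
    obtain ⟨g, hg⟩ := hp.exists_smul_eq
      (Projectivization.mk F (Pi.single i (1 : F)) (Pi.single_ne_zero_iff.2 one_ne_zero))
      (Projectivization.mk F u hu)
    rw [Projectivization.smul_mk, Projectivization.mk_eq_mk_iff] at hg
    obtain ⟨c, hc⟩ := hg
    have hd : (SpecialLinearGroup.diag2n hij ((c⁻¹ : Fˣ) : F) (Units.ne_zero _) : Matrix ι ι F) *ᵥ
        (Pi.single i (1 : F)) = ((c⁻¹ : Fˣ) : F) • Pi.single i (1 : F) := by
      change (diagonal fun k => if k = i then ((c⁻¹ : Fˣ) : F) else if k = j then ((c⁻¹ : Fˣ) : F)⁻¹ else 1) *ᵥ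
        (Pi.single i (1 : F)) = _
      ext k
      rw [mulVec_diagonal]
      by_cases hk : k = i
      · subst hk; simp
      · simp [hk]
    refine ⟨g * SpecialLinearGroup.diag2n hij ((c⁻¹ : Fˣ) : F) (Units.ne_zero _), ?_⟩
    erw [sl_coe_mul]
    rw [← mulVec_mulVec, hd, mulVec_smul]
    change ((c⁻¹ : Fˣ) : F) • (g • (Pi.single i (1 : F) : ι → F)) = u
    rw [← hc, Units.smul_def, smul_smul, Units.inv_mul, one_smul]
  obtain ⟨g, hg⟩ := key v hv
  obtain ⟨h, hh⟩ := key w hw
  refine ⟨h * g⁻¹, ?_⟩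
  rw [← hg, mulVec_mulVec]
  erw [← sl_coe_mul, inv_mul_cancel_right]
  exact hh

/-- A matrix of rank one is an outer product. -/
theorem exists_vecMulVec_of_rank_eq_one {M : Matrix ι ι F} (h : M.rank = 1) :
    ∃ v w : ι → F, v ≠ 0 ∧ w ≠ 0 ∧ M = vecMulVec v w := by
  rw [Matrix.rank] at h
  obtain ⟨⟨v, hv⟩, hv0, hspan⟩ := finrank_eq_one_iff'.mp h
  choose w hw using fun j => hspan ⟨M *ᵥ Pi.single j 1, ⟨Pi.single j 1, rfl⟩⟩
  have hM : M = vecMulVec v w := by
    ext a b
    have := congrFun (congrArg Subtype.val (hw b)) a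
    simp at this
    rw [← this, vecMulVec_apply, mul_comm]
  refine ⟨v, w, fun hv' => hv0 (Subtype.ext hv'), fun hw' => ?_, hM⟩
  apply hv0
  obtain ⟨x, hx⟩ := hv
  apply Subtype.ext
  change v = 0
  rw [← hx, hM, hw']
  simp

/-- Every transvection is conjugate to one with axis a coordinate hyperplane. -/
theorem exists_conj_transvection [Nontrivial ι] (i : ι) (t : SpecialLinearGroup ι F)
    (h1 : ((t : Matrix ι ι F) - 1).rank = 1)
    (h2 : ((t : Matrix ι ι F) - 1) * ((t : Matrix ι ι F) - 1) = 0) :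
    ∃ (g : SpecialLinearGroup ι F) (v : ι → F), v i = 0 ∧ v ≠ 0 ∧
      ((g⁻¹ * t * g : SpecialLinearGroup ι F) : Matrix ι ι F) = 1 + vecMulVec v (Pi.single i 1) := by
  obtain ⟨v, w, hv, hw, hM⟩ := exists_vecMulVec_of_rank_eq_one h1
  have hwv : w ⬝ᵥ v = 0 := by
    rw [hM, vecMulVec_mul_vecMulVec] at h2
    obtain ⟨a, ha⟩ := Function.ne_iff.mp hv
    obtain ⟨b, hb⟩ := Function.ne_iff.mp hw
    have := congrFun (congrFun h2 a) b
    simpa [vecMulVec_apply, Pi.zero_apply, (show v a ≠ 0 from ha), (show w b ≠ 0 from hb), smul_eq_mul] using this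
  obtain ⟨G, hG⟩ := exists_SL_mulVec_eq (Pi.single_ne_zero_iff.2 one_ne_zero : (Pi.single i (1:F) : ι → F) ≠ 0) hw
  -- `g = (Gᵀ)⁻¹`
  set g : SpecialLinearGroup ι F := (SpecialLinearGroup.transpose G)⁻¹ with hg
  have hgc : w ᵥ* (g : Matrix ι ι F) = Pi.single i 1 := by
    rw [← hG, ← vecMul_transpose, vecMul_vecMul]
    erw [sl_mul_inv (SpecialLinearGroup.transpose G)]
    rw [vecMul_one]
  have hne : (g⁻¹ : SpecialLinearGroup ι F).1 *ᵥ v ≠ 0 := by
    intro h
    apply hv
    have := congrArg ((g : Matrix ι ι F) *ᵥ ·) h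
    simp only [mulVec_mulVec, mulVec_zero] at this
    erw [sl_mul_inv g, one_mulVec] at this
    exact this
  refine ⟨g, (g⁻¹ : SpecialLinearGroup ι F).1 *ᵥ v, ?_, hne, ?_⟩
  · have h0 : Pi.single i (1 : F) ⬝ᵥ ((g⁻¹ : SpecialLinearGroup ι F).1 *ᵥ v) = 0 := by
      rw [← hgc, dotProduct_mulVec, vecMul_vecMul]
      erw [sl_mul_inv g]
      rw [vecMul_one, hwv]
    simpa using h0
  · erw [sl_coe_mul, sl_coe_mul]
    rw [eq_add_of_sub_eq' hM, mul_add, mul_one, add_mul]
    erw [sl_inv_mul g]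
    rw [mul_vecMulVec, vecMulVec_mul, hgc]

theorem two_mul_choose (n : ℕ) : n * (n - 1) / 2 = n.choose 2 := (Nat.choose_two_right n).symm

theorem prod_GL_factor (q n : ℕ) :
    ∏ i : Fin n, (q ^ n - q ^ (i : ℕ)) = q ^ (n * (n - 1) / 2) * ∏ i ∈ Finset.range n, (q ^ (n - i) - 1) := by
  rw [Fin.prod_univ_eq_prod_range (fun i => q ^ n - q ^ i),
    show n * (n - 1) / 2 = ∑ i ∈ Finset.range n, i from (Finset.sum_range_id n).symm,
    ← Finset.prod_pow_eq_pow_sum, ← Finset.prod_mul_distrib]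
  refine Finset.prod_congr rfl fun i hi => ?_
  rw [Finset.mem_range] at hi
  rw [Nat.mul_sub_left_distrib, mul_one, ← pow_add, Nat.add_sub_cancel' hi.le]

theorem card_sylow_GL [Fintype F] (p : ℕ) [Fact p.Prime] [CharP F p] (n : ℕ)
    (P : Sylow p (GL (Fin n) F)) : Nat.card P = Fintype.card F ^ (n * (n - 1) / 2) := by
  obtain ⟨k, hp, hk⟩ := FiniteField.card F p
  rw [Sylow.card_eq_multiplicity, Matrix.card_GL_field, prod_GL_factor]
  set M := ∏ i ∈ Finset.range n, (Fintype.card F ^ (n - i) - 1)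
  have hndvd : ¬ p ∣ M := by
    rw [hp.prime.dvd_finsetProd_iff]
    rintro ⟨i, hi, hd⟩
    rw [Finset.mem_range] at hi
    have h1 : p ∣ Fintype.card F ^ (n - i) :=
      dvd_pow (hk ▸ dvd_pow_self p k.pos.ne') (by omega)
    have h2 : 1 ≤ Fintype.card F ^ (n - i) := Nat.one_le_pow _ _ Fintype.card_pos
    have := Nat.dvd_sub h1 hd
    rw [Nat.sub_sub_self h2] at this
    exact hp.one_lt.ne' (Nat.dvd_one.mp this)
  have hM : M ≠ 0 := fun h => hndvd (h ▸ dvd_zero p)
  rw [Nat.factorization_mul (pow_ne_zero _ Fintype.card_ne_zero) hM, hk, ← pow_mul,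
    hp.factorization_pow]
  simp [Nat.factorization_eq_zero_of_not_dvd hndvd]

end Cfsg.Lib.Classical
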